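import Mathlib

/-!
Homogeneous avoidance for finitely many points, and finiteness facts for integral algebras over a field.
-/

set_option autoImplicit false
set_option linter.style.haveILetI false

universe u v w

open MvPolynomial

namespace Groth.Agent.AmpleAvoidLib

/-- A homogeneous polynomial of positive degree nonzero at finitely many points of projective space. -/
theorem exists_homogeneous_avoid {ι : Type u} (i₀ : ι) {J : Type w} (K : J → Type v) [∀ j, Field (K j)]
    (ev : ∀ j, MvPolynomial ι ℤ →+* K j) (s : Finset J) (hne : ∀ j ∈ s, ∃ b, ev j (X b) ≠ 0) :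
    ∃ (m : ℕ) (P : MvPolynomial ι ℤ), 0 < m ∧ P.IsHomogeneous m ∧ ∀ j ∈ s, ev j P ≠ 0 := by
  classical
  induction s using Finset.strongInduction with
  | _ s ih =>
    rcases s.eq_empty_or_nonempty with rfl | hs
    · exact ⟨1, X i₀, one_pos, isHomogeneous_X _ _, fun j hj => absurd hj (Finset.notMem_empty j)⟩
    let H : J → Set (MvPolynomial ι ℤ) := fun j => {P | ∃ m, P.IsHomogeneous m ∧ ev j P = 0}
    obtain ⟨j, hj, hmin⟩ := s.exists_minimalFor H hs
    obtain ⟨m, P, hm, hP, hav⟩ := ih (s.erase j) (Finset.erase_ssubset hj) fun l hl => hne l (Finset.mem_of_mem_erase hl)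
    have hall : ∀ Q : MvPolynomial ι ℤ, (∀ l ∈ s.erase j, ev l Q ≠ 0) → ev j Q ≠ 0 → ∀ l ∈ s, ev l Q ≠ 0 :=
      fun Q h1 h2 l hl => if h : l = j then h ▸ h2 else h1 l (Finset.mem_erase.2 ⟨h, hl⟩)
    by_cases hPj : ev j P = 0
    swap
    · exact ⟨m, P, hm, hP, hall P hav hPj⟩
    have hsep : ∀ l ∈ s.erase j, ∃ (d : ℕ) (Q : MvPolynomial ι ℤ), Q.IsHomogeneous d ∧ ev l Q = 0 ∧ ev j Q ≠ 0 := by
      intro l hl
      by_contra hcon
      push Not at hcon
      have hle : H l ⊆ H j := fun Q ⟨d, hd, hQ⟩ => ⟨d, hd, hcon d Q hd hQ⟩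
      obtain ⟨d, hd, h0⟩ := hmin (Finset.mem_of_mem_erase hl) hle ⟨m, hP, hPj⟩
      exact hav l hl h0
    choose! d Q hQ hQl hQj using hsep
    obtain ⟨b, hb⟩ := hne j hj
    let R : MvPolynomial ι ℤ := (∏ l ∈ s.erase j, Q l) * X b
    let D : ℕ := (∑ l ∈ s.erase j, d l) + 1
    have hR : R.IsHomogeneous D :=
      (IsHomogeneous.prod _ _ _ fun l hl => hQ l hl).mul (isHomogeneous_X _ _)
    have hRj : ev j R ≠ 0 := by
      rw [map_mul, map_prod]
      exact mul_ne_zero (Finset.prod_ne_zero_iff.2 fun l hl => hQj l hl) hb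
    have hRl : ∀ l ∈ s.erase j, ev l R = 0 := fun l hl => by
      rw [map_mul, map_prod, Finset.prod_eq_zero hl (hQl l hl), zero_mul]
    have hD : 0 < D := Nat.succ_pos _
    refine ⟨m * D, P ^ D + R ^ m, Nat.mul_pos hm hD, (hP.pow D).add (Nat.mul_comm D m ▸ hR.pow m), hall _ ?_ ?_⟩
    · intro l hl
      rw [map_add, map_pow, map_pow, hRl l hl, zero_pow hm.ne', add_zero]
      exact pow_ne_zero _ (hav l hl)
    · rw [map_add, map_pow, map_pow, hPj, zero_pow hD.ne', zero_add]
      exact pow_ne_zero _ hRj

/-- The inverse of an integral element of an algebra over a field is integral. -/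
theorem isIntegral_of_mul_eq_one {k : Type u} [Field k] {R : Type v} [CommRing R] [Algebra k R] {y w : R}
    (hy : IsIntegral k y) (h : y * w = 1) : IsIntegral k w := by
  have hfin : Module.Finite k (Algebra.adjoin k ({y} : Set R)) :=
    Module.Finite.iff_fg.2 hy.fg_adjoin_singleton
  let B := Algebra.adjoin k ({y} : Set R)
  let y' : B := ⟨y, Algebra.subset_adjoin rfl⟩
  have hinj : Function.Injective (LinearMap.mulLeft k y') := fun a b e => by
    have e' : y * (a : R) = y * b := congrArg Subtype.val e
    refine Subtype.ext ?_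
    calc (a : R) = w * (y * a) := by rw [← mul_assoc, mul_comm w y, h, one_mul]
      _ = w * (y * b) := by rw [e']
      _ = b := by rw [← mul_assoc, mul_comm w y, h, one_mul]
  obtain ⟨v, hv⟩ := LinearMap.injective_iff_surjective.1 hinj 1
  have hv' : y * (v : R) = 1 := congrArg Subtype.val hv
  have hwv : w = (v : R) := by
    calc w = w * (y * v) := by rw [hv', mul_one]
      _ = v := by rw [← mul_assoc, mul_comm w y, h, one_mul]
  have hint : IsIntegral k v := IsIntegral.of_finite k v
  exact hwv ▸ hint.map B.val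

/-- Finitely many elements of an integral algebra over a field meet only finitely many prime ideals of the
subalgebra they generate. -/
theorem finite_primeSpectrum_adjoin {k : Type u} [Field k] {R : Type v} [CommRing R] [Algebra k R]
    [Algebra.IsIntegral k R] (S : Set R) (hS : S.Finite) : Finite (PrimeSpectrum (Algebra.adjoin k S)) := by
  haveI : Module.Finite k (Algebra.adjoin k S) :=
    Module.Finite.iff_fg.2 (fg_adjoin_of_finite hS fun x _ => Algebra.IsIntegral.isIntegral x)
  haveI : IsArtinianRing (Algebra.adjoin k S) := IsArtinianRing.of_finite k _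
  infer_instance

end Groth.Agent.AmpleAvoidLib
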