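import Groth.Agent.AmpleAvoidLib.Avoid
import Groth.Agent.AmpleEmb.FiniteSet
import Groth.Agent.AmpleEmb.Sections
import Groth.Agent.AmpleLib.Extend

/-!
Sections of an ample module avoiding the image of the spectrum of an integral algebra over a field.
-/

set_option autoImplicit false
set_option backward.isDefEq.respectTransparency false
set_option linter.style.haveILetI false

universe u

open CategoryTheory AlgebraicGeometry TopologicalSpace Opposite MvPolynomial
open Groth.Agent.ParaFLib Groth.Agent.PullbackMod Groth.Agent.DCohLib Groth.Agent.AmpleLib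

noncomputable section

namespace Groth.Agent.AmpleAvoidLib

variable {X : Scheme.{u}} {P : X.Modules}

/-- The polynomial `F` in the ratios over `U`. -/
def evalR {ι : Type u} {U : X.Opens} (r : ι → Γ(X, U)) : MvPolynomial ι ℤ →+* Γ(X, U) :=
  MvPolynomial.eval₂Hom (Int.castRingHom _) r

/-- A monomial of positive degree is a monomial of one degree less times a section. -/
theorem exists_term {ι κ : Type u} (s : ι → (Coh.structureModule X ⟶ P)) (U : κ → X.Opens)
    (e : ∀ a, Γ(P, U a)) (r : ∀ a, ι → Γ(X, U a)) (hr : ∀ a b, r a b • e a = resT (sec (s b)) (U a)) (m : ℕ)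
    (ih : ∀ F : MvPolynomial ι ℤ, F.IsHomogeneous m →
      ∃ ξ : Γ(CohB1.tensorPow P m, ⊤), ∀ a, resT ξ (U a) = evalR (r a) F • powLoc (e a) m)
    (c : ℤ) {d : ι →₀ ℕ} (hdeg : d.degree = m + 1) :
    ∃ (b : ι) (ξ : Γ(CohB1.tensorPow P m, ⊤)), ∀ a,
      resT (L := CohB1.tensorPow P (m + 1)) (pairS (CohB1.tensorPow P m) P ξ (sec (s b))) (U a) =
        evalR (r a) (monomial d c) • powLoc (e a) (m + 1) := by
  classical
  obtain ⟨b, hb⟩ : ∃ b, b ∈ d.support := by
    refine (Finsupp.support_nonempty_iff.2 fun h0 => ?_).exists_mem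
    rw [h0, map_zero] at hdeg
    omega
  have hle : Finsupp.single b 1 ≤ d :=
    Finsupp.single_le_iff.2 (Nat.one_le_iff_ne_zero.2 (Finsupp.mem_support_iff.1 hb))
  have hsum : d - Finsupp.single b 1 + Finsupp.single b 1 = d := tsub_add_cancel_of_le hle
  have hdeg' : (d - Finsupp.single b 1).degree = m := by
    have := congrArg Finsupp.degree hsum
    rw [map_add, Finsupp.degree_single, hdeg] at this
    omega
  obtain ⟨ξ, hξ⟩ := ih (monomial (d - Finsupp.single b 1) c) (isHomogeneous_monomial _ hdeg')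
  refine ⟨b, ξ, fun a => ?_⟩
  have hmono : monomial d c = monomial (d - Finsupp.single b 1) c * MvPolynomial.X b := by
    show monomial d c = monomial (d - Finsupp.single b 1) c * monomial (Finsupp.single b 1) 1
    rw [monomial_mul, hsum, _root_.mul_one]
  show (CohB1.tensorPow P (m + 1)).presheaf.map (homOfLE le_top).op _ = _
  refine (res_pairS le_top ξ (sec (s b))).trans ?_
  rw [show (CohB1.tensorPow P m).presheaf.map (homOfLE le_top).op ξ = resT ξ (U a) from rfl, hξ,
    show P.presheaf.map (homOfLE le_top).op (sec (s b)) = resT (sec (s b)) (U a) from rfl, ← hr, pairS_smul_left,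
    pairS_smul_right, smul_smul, hmono, map_mul, evalR, eval₂Hom_X']
  rfl

theorem degree_of_mem_support {ι : Type u} {F : MvPolynomial ι ℤ} {m : ℕ} (hF : F.IsHomogeneous m) (d : F.support) :
    (d.1 : ι →₀ ℕ).degree = m := by
  rw [Finsupp.degree_eq_weight_one]; exact hF (mem_support_iff.1 d.2)

theorem sum_terms {ι : Type u} {U : X.Opens} (r : ι → Γ(X, U)) (F : MvPolynomial ι ℤ) :
    ∑ d : F.support, evalR r (monomial d.1 (F.coeff d.1)) = evalR r F := by
  rw [← map_sum]
  exact congrArg _ ((F.support.sum_coe_sort fun d => monomial d (F.coeff d)).trans F.as_sum.symm)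

/-- A homogeneous polynomial in sections, with given coefficients over each chart. -/
theorem exists_realize {ι κ : Type u} (s : ι → (Coh.structureModule X ⟶ P)) (U : κ → X.Opens)
    (e : ∀ a, Γ(P, U a)) (r : ∀ a, ι → Γ(X, U a)) (hr : ∀ a b, r a b • e a = resT (sec (s b)) (U a)) :
    ∀ (m : ℕ) (F : MvPolynomial ι ℤ), F.IsHomogeneous m →
      ∃ ξ : Γ(CohB1.tensorPow P m, ⊤), ∀ a, resT ξ (U a) = evalR (r a) F • powLoc (e a) m := by
  classical
  intro m
  induction m with
  | zero =>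
    intro F hF
    obtain ⟨c, rfl⟩ : ∃ c, F = C c := ⟨F.coeff 0,
      totalDegree_eq_zero_iff_eq_C.1 (Nat.le_zero.1 hF.totalDegree_le)⟩
    refine ⟨(c : Γ(X, ⊤)) • powLoc (0 : Γ(P, ⊤)) 0, fun a => ?_⟩
    show (CohB1.tensorPow P 0).presheaf.map (homOfLE le_top).op _ = _
    rw [Scheme.Modules.map_smul, powLoc_res, map_intCast, evalR, eval₂Hom_C, eq_intCast]
    rfl
  | succ m ih =>
    intro F hF
    choose b ξ hξ using fun d : F.support =>
      exists_term s U e r hr m ih (F.coeff d.1) (degree_of_mem_support hF d)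
    refine ⟨∑ d, (show Γ(CohB1.tensorPow P (m + 1), ⊤) from pairS (CohB1.tensorPow P m) P (ξ d) (sec (s (b d)))),
      fun a => ?_⟩
    show (CohB1.tensorPow P (m + 1)).presheaf.map (homOfLE le_top).op _ = _
    rw [map_sum]
    refine (Finset.sum_congr rfl fun d _ => hξ d a).trans ?_
    rw [← Finset.sum_smul, sum_terms]

variable {L : X.Modules}

/-- The image of the spectrum of an integral algebra over a field lies in an affine locus inside a given open. -/
theorem exists_genLocus_integral (hL : CohB1.IsAmple L) (k A : Type u) [Field k] [CommRing A] [Algebra k A]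
    [Algebra.IsIntegral k A] (W : X.Opens) (g : Spec (CommRingCat.of A) ⟶ X)
    (hg : Set.range g.base ⊆ (W : Set X)) :
    ∃ (n : ℕ) (s : Coh.structureModule X ⟶ CohB1.tensorPow L (n + 1)),
      IsAffineOpen (CohB1.genLocus _ s) ∧ CohB1.genLocus _ s ≤ W ∧
        Set.range g.base ⊆ (CohB1.genLocus _ s : Set X) := by
  classical
  rcases isEmpty_or_nonempty (PrimeSpectrum A) with hA | hA
  · obtain ⟨ha, hle⟩ := AmpleEmb.isAffineOpen_genLocus_sum (isInvertible_tensorPow hL.1 1)
      (ι := PEmpty.{u + 1}) (fun z => z.elim) (fun z => z.elim)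
    refine ⟨0, _, ha, hle.trans (by simp), ?_⟩
    rintro _ ⟨z, rfl⟩
    exact hA.elim z
  -- a finite cover by charts
  have hx : ∀ z : PrimeSpectrum A, ∃ (n : ℕ) (σ : Coh.structureModule X ⟶ CohB1.tensorPow L (n + 1)) (f : A),
      z ∈ PrimeSpectrum.basicOpen f ∧ CohB1.genLocus _ σ ≤ W ∧ IsAffineOpen (CohB1.genLocus _ σ) ∧
        (PrimeSpectrum.basicOpen f : Set (PrimeSpectrum A)) ⊆ g.base ⁻¹' (CohB1.genLocus _ σ : Set X) := by
    intro z
    obtain ⟨n, σ, h1, h2, h3⟩ := exists_small_genLocus hL (U := W) (hg ⟨z, rfl⟩)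
    obtain ⟨_, ⟨f, rfl⟩, hzf, hf⟩ := PrimeSpectrum.isTopologicalBasis_basic_opens.exists_subset_of_mem_open
      (show z ∈ g.base ⁻¹' (CohB1.genLocus _ σ : Set X) from h1) ((CohB1.genLocus _ σ).2.preimage g.base.hom.continuous)
    exact ⟨n, σ, f, hzf, h2, h3, hf⟩
  choose n σ f hzf hσW hσa hfσ using hx
  obtain ⟨t, ht⟩ := isCompact_univ.elim_finite_subcover
    (fun z : PrimeSpectrum A => (PrimeSpectrum.basicOpen (f z) : Set (PrimeSpectrum A)))
    (fun z => (PrimeSpectrum.basicOpen (f z)).2) (fun z _ => Set.mem_iUnion.2 ⟨z, hzf z⟩)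
  obtain ⟨N, hN⟩ : ∃ N, ∏ z : t, (n z.1 + 1) = N + 1 :=
    Nat.exists_eq_succ_of_ne_zero (Finset.prod_pos fun z _ => Nat.succ_pos _).ne'
  choose s hs using fun z : t => AmpleEmb.exists_raise hL.1 (D := N + 1) N.succ_pos
    (by rw [← hN]; exact Finset.dvd_prod_of_mem (fun z : t => n z.1 + 1) (Finset.mem_univ z)) (σ z.1)
  let P := CohB1.tensorPow L (N + 1)
  have hP : PicF.IsInvertible P := isInvertible_tensorPow hL.1 (N + 1)
  let U : t → X.Opens := fun a => CohB1.genLocus P (s a)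
  have hUW : ∀ a, U a ≤ W := fun a => (hs a).le.trans (hσW a.1)
  have hUa : ∀ a, IsAffineOpen (U a) := fun a => by
    rw [show U a = _ from hs a]
    exact hσa a.1
  let e : ∀ a, Γ(P, U a) := fun a => resT (sec (s a)) (U a)
  have he : ∀ a, Gen (U a) (e a) := fun a => AmpleEmb.gen_genLocus hP (s a)
  have hcoef : ∀ a b, ∃ c : Γ(X, U a), c • e a = resT (sec (s b)) (U a) := fun a b => by
    obtain ⟨c, hc⟩ := ((he a) _ le_rfl).2 (resT (sec (s b)) (U a))
    simp only [ParaFLib.res_self] at hc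
    exact ⟨c, hc⟩
  choose r hr using hcoef
  have hself : ∀ a, r a a = 1 := fun a => by
    refine ((he a) _ le_rfl).1 ?_
    simp only [ParaFLib.res_self, one_smul]
    exact hr a a
  -- the rings of the pieces
  let V : t → (Spec (CommRingCat.of A)).Opens := fun a => PrimeSpectrum.basicOpen (f a.1)
  have hV : ∀ a, V a ≤ g ⁻¹ᵁ U a := fun a z hz => by
    show g z ∈ CohB1.genLocus P (s a)
    rw [hs a]
    exact hfσ a.1 hz
  have hVa : ∀ a, IsAffineOpen (V a) := fun a => by
    have := (isAffineOpen_top (Spec (CommRingCat.of A))).basicOpen ((Scheme.ΓSpecIso (CommRingCat.of A)).inv (f a.1))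
    rwa [basicOpen_eq_of_affine] at this
  let R : t → Type u := fun a => Γ(Spec (CommRingCat.of A), V a)
  let ρ : ∀ a, A →+* R a := fun a =>
    @algebraMap A (R a) _ _ (StructureSheaf.openAlgebra A (Opposite.op (V a)))
  letI hk : ∀ a, Algebra k (R a) := fun a => ((ρ a).comp (algebraMap k A)).toAlgebra
  have hint : ∀ a, Algebra.IsIntegral k (R a) := fun a => by
    letI : Algebra A (R a) := StructureSheaf.openAlgebra A (Opposite.op (V a))
    haveI : IsScalarTower k A (R a) := IsScalarTower.of_algebraMap_eq fun _ => rfl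
    haveI : IsLocalization.Away (f a.1) (R a) :=
      StructureSheaf.IsLocalization.to_basicOpen A (f a.1)
    have hmap : ∀ x : A, IsIntegral k (ρ a x) := fun x =>
      (Algebra.IsIntegral.isIntegral (R := k) x).map (IsScalarTower.toAlgHom k A (R a))
    refine ⟨fun x => ?_⟩
    obtain ⟨m, y, hy⟩ := IsLocalization.Away.surj (f a.1) x
    obtain ⟨w, hw⟩ := (IsLocalization.Away.algebraMap_isUnit (S := R a) (f a.1)).exists_right_inv
    have hx : x = ρ a y * w ^ m := by
      rw [show ρ a y = algebraMap A (R a) y from rfl, ← hy, mul_assoc, ← mul_pow, hw, one_pow, _root_.mul_one]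
    rw [hx]
    exact (hmap y).mul ((isIntegral_of_mul_eq_one (hmap (f a.1)) hw).pow m)
  let ψ : ∀ a, Γ(X, U a) →+* R a := fun a => (g.appLE (U a) (V a) (hV a)).hom
  let B : ∀ a, Subalgebra k (R a) := fun a => Algebra.adjoin k (Set.range fun b => ψ a (r a b))
  haveI : ∀ a, Finite (PrimeSpectrum (B a)) := fun a =>
    haveI := hint a
    finite_primeSpectrum_adjoin _ (Set.finite_range _)
  haveI : Fintype (Σ a, PrimeSpectrum (B a)) := Fintype.ofFinite _
  let η : ∀ a, MvPolynomial t ℤ →+* B a := fun a =>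
    MvPolynomial.eval₂Hom (Int.castRingHom _) fun b => ⟨ψ a (r a b), Algebra.subset_adjoin ⟨b, rfl⟩⟩
  have hη : ∀ a F, ((η a F : B a) : R a) = ψ a (evalR (r a) F) := fun a => RingHom.congr_fun
    (MvPolynomial.ringHom_ext (f := (B a).val.toRingHom.comp (η a)) (g := (ψ a).comp (evalR (r a)))
      (fun c => by simp) (fun b => by simp [η, evalR]))
  obtain ⟨z₀⟩ := hA
  obtain ⟨a₀, ha₀, -⟩ := Set.mem_iUnion₂.1 (ht (Set.mem_univ z₀))
  obtain ⟨m, F, hm, hF, hav⟩ := exists_homogeneous_avoid (⟨a₀, ha₀⟩ : t)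
    (fun i : Σ a, PrimeSpectrum (B a) => i.2.asIdeal.ResidueField)
    (fun i => (algebraMap (B i.1) i.2.asIdeal.ResidueField).comp (η i.1)) Finset.univ fun i _ => by
      refine ⟨i.1, ?_⟩
      have h1 : η i.1 (MvPolynomial.X i.1) = 1 := Subtype.ext (by
        rw [hη, evalR, eval₂Hom_X', hself, map_one]; rfl)
      simp [h1]
  obtain ⟨m, rfl⟩ : ∃ m', m = m' + 1 := Nat.exists_eq_succ_of_ne_zero hm.ne'
  -- the section
  choose b ξ hξ using fun d : F.support =>
    exists_term s U e r hr m (exists_realize s U e r hr m) (F.coeff d.1) (degree_of_mem_support hF d)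
  let Q := CohB1.tensorPow P (m + 1)
  have hQ : PicF.IsInvertible Q := isInvertible_tensorPow hP (m + 1)
  let T : F.support → (Coh.structureModule X ⟶ Q) := fun d => tensorS (secHom _ (ξ d)) (s (b d))
  have hT : ∀ d, sec (T d) = pairS (CohB1.tensorPow P m) P (ξ d) (sec (s (b d))) := fun d =>
    (sec_secHom (L := tmod (CohB1.tensorPow P m) P) _).trans
      (congrArg (fun v => pairS (CohB1.tensorPow P m) P v (sec (s (b d)))) (sec_secHom _))
  have hTl : ∀ d, CohB1.genLocus Q (T d) = CohB1.genLocus _ (secHom _ (ξ d)) ⊓ U (b d) := fun d =>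
    genLocus_tensorS (isInvertible_tensorPow hP m) hP _ _
  obtain ⟨hA', hsub⟩ := AmpleEmb.isAffineOpen_genLocus_sum hQ T fun d => by
    rw [hTl]; exact isAffineOpen_inf_genLocus (isInvertible_tensorPow hP m) _ (hUa _)
  let S := secHom Q (∑ d, sec (T d))
  obtain ⟨M, hM⟩ : ∃ M, (N + 1) * (m + 1) = M + 1 :=
    ⟨(N + 1) * (m + 1) - 1, (Nat.succ_pred_eq_of_pos (Nat.mul_pos N.succ_pos m.succ_pos)).symm⟩
  refine ⟨M, S ≫ (powMul L (N + 1) (m + 1) ≪≫ eqToIso (congrArg (CohB1.tensorPow L) hM)).hom, ?_⟩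
  rw [genLocus_comp_iso]
  refine ⟨hA', hsub.trans (iSup_le fun d => (hTl d).le.trans (inf_le_right.trans (hUW _))), ?_⟩
  rintro _ ⟨z, rfl⟩
  obtain ⟨a₁, ha₁, hza⟩ := Set.mem_iUnion₂.1 (ht (Set.mem_univ z))
  let a : t := ⟨a₁, ha₁⟩
  let φ := evalR (r a) F
  have hcoefS : φ • powLoc (e a) (m + 1) = resT (sec S) (U a) := by
    show _ = Q.presheaf.map (homOfLE le_top).op (sec S)
    rw [sec_secHom, map_sum, Finset.sum_congr rfl fun d _ => (congrArg _ (hT d)).trans (hξ d a), ← Finset.sum_smul,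
      sum_terms]
  have hloc : CohB1.genLocus Q S ⊓ U a = X.basicOpen φ :=
    genLocus_inf_eq_basicOpen S (gen_powLoc (he a) (m + 1)) hcoefS
  have hz : z ∈ V a := hza
  let q : PrimeSpectrum (B a) := PrimeSpectrum.comap (B a).val.toRingHom ((hVa a).primeIdealOf ⟨z, hz⟩)
  have hq := hav ⟨a, q⟩ (Finset.mem_univ _)
  have hz' : ψ a φ ∉ ((hVa a).primeIdealOf ⟨z, hz⟩).asIdeal := fun h => hq (by
    have h1 : η a F ∈ q.asIdeal := by
      show ((η a F : B a) : R a) ∈ ((hVa a).primeIdealOf ⟨z, hz⟩).asIdeal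
      rw [hη]; exact h
    exact Ideal.algebraMap_residueField_eq_zero.2 h1)
  have h2 : (⟨z, hz⟩ : V a).1 ∈ (Spec (CommRingCat.of A)).basicOpen (ψ a φ) := by
    have h3 : (hVa a).fromSpec ((hVa a).primeIdealOf ⟨z, hz⟩) = z := (hVa a).fromSpec_primeIdealOf ⟨z, hz⟩
    have h5 : (hVa a).primeIdealOf ⟨z, hz⟩ ∈ (hVa a).fromSpec ⁻¹ᵁ (Spec (CommRingCat.of A)).basicOpen (ψ a φ) := by
      rw [(hVa a).fromSpec_preimage_basicOpen]
      exact hz'
    show z ∈ (Spec (CommRingCat.of A)).basicOpen (ψ a φ)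
    exact Eq.mp (congrArg (fun w => w ∈ (Spec (CommRingCat.of A)).basicOpen (ψ a φ)) h3) h5
  have h4 : g z ∈ X.basicOpen φ := by
    have := (Scheme.basicOpen_appLE g (V a) (U a) (hV a) φ).le h2
    exact this.2
  exact (hloc.ge h4).1

end Groth.Agent.AmpleAvoidLib
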